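import Mathlib.AlgebraicGeometry.QuasiAffine
import Mathlib.AlgebraicGeometry.AffineSpace

/-!
# Affine basic opens of quasi-affine schemes; affine vector bundle torsors
-/

universe u

open CategoryTheory CategoryTheory.Limits AlgebraicGeometry TopologicalSpace

set_option backward.isDefEq.respectTransparency.types false

namespace Groth.Agent.QAffTorsor12

/-- An affine basic open of global sections exhausts the corresponding basic open of `Spec Γ`. -/
theorem basicOpen_le_range (X : Scheme.{u}) [CompactSpace X] [QuasiSeparatedSpace X] (r : Γ(X, ⊤))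
    (hr : IsAffineOpen (X.basicOpen r)) :
    (PrimeSpectrum.basicOpen r : Set (PrimeSpectrum Γ(X, ⊤))) ⊆ Set.range X.toSpecΓ := by
  intro p hp
  have := isLocalization_basicOpen_of_qcqs (X := X) isCompact_univ isQuasiSeparated_univ r
  rw [← PrimeSpectrum.localization_away_comap_range Γ(X, X.basicOpen r) r] at hp
  obtain ⟨q, hq⟩ := hp
  refine ⟨(X.basicOpen r).ι (hr.isoSpec.inv q), ?_⟩
  rw [← Scheme.Hom.comp_apply, ← Scheme.Hom.comp_apply, ← Category.assoc,
    Category.assoc hr.isoSpec.inv, ← Scheme.Opens.toSpecΓ_SpecMap_presheaf_map_top,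
    ← hr.isoSpec_hom, Iso.inv_hom_id_assoc]
  exact hq

/-- An open immersion of quasi-affine schemes is a base change of the map on spectra of global
sections. -/
theorem isPullback_toSpecΓ {U V : Scheme.{u}} (j : U ⟶ V) [IsOpenImmersion j] [U.IsQuasiAffine]
    [V.IsQuasiAffine] : IsPullback (𝟙 U) U.toSpecΓ (j ≫ V.toSpecΓ) (Spec.map j.appTop) := by
  refine IsOpenImmersion.isPullback _ _ _ _ (by rw [Category.id_comp, Scheme.toSpecΓ_naturality]) ?_
  ext p
  constructor
  · rintro ⟨u, hu⟩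
    obtain ⟨_, ⟨_, ⟨r, hr, rfl⟩, rfl⟩, hur, hrj⟩ :=
      (Scheme.IsQuasiAffine.isBasis_basicOpen V).exists_subset_of_mem_open
        (show j u ∈ j.opensRange from ⟨u, rfl⟩) j.opensRange.2
    have haff : IsAffineOpen (U.basicOpen (j.appTop r)) := by
      rw [← Scheme.preimage_basicOpen_top]
      exact hr.preimage_of_isOpenImmersion j hrj
    refine basicOpen_le_range U _ haff ?_
    show (Spec.map j.appTop) p ∈ PrimeSpectrum.basicOpen r
    have h1 : j u ∈ V.toSpecΓ ⁻¹ᵁ PrimeSpectrum.basicOpen r :=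
      (Scheme.toSpecΓ_preimage_basicOpen V r).ge hur
    rw [← hu]
    exact h1
  · rintro ⟨u, rfl⟩
    exact ⟨u, by
      show (j ≫ V.toSpecΓ) u = (U.toSpecΓ ≫ Spec.map j.appTop) u
      rw [Scheme.toSpecΓ_naturality]⟩

/-- Morphisms into the spectrum of a ring given by ring maps. -/
theorem specHom_appTop {T : Scheme.{u}} {R : CommRingCat.{u}} (φ : R ⟶ Γ(T, ⊤)) :
    (T.toSpecΓ ≫ Spec.map φ).appTop = (Scheme.ΓSpecIso R).hom ≫ φ := by
  rw [Scheme.Hom.comp_appTop, Scheme.toSpecΓ_appTop, Scheme.ΓSpecIso_naturality]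

theorem specHom_comp {T T' : Scheme.{u}} (b : T' ⟶ T) {R : CommRingCat.{u}} (φ : R ⟶ Γ(T, ⊤)) :
    b ≫ T.toSpecΓ ≫ Spec.map φ = T'.toSpecΓ ≫ Spec.map (φ ≫ b.appTop) := by
  rw [← Category.assoc, Scheme.toSpecΓ_naturality, Category.assoc, ← Spec.map_comp]

theorem eq_specHom {T : Scheme.{u}} {R : CommRingCat.{u}} (b : T ⟶ Spec R) :
    b = T.toSpecΓ ≫ Spec.map ((Scheme.ΓSpecIso R).inv ≫ b.appTop) := by
  refine ext_of_isAffine ?_
  rw [specHom_appTop, Iso.hom_inv_id_assoc]

section torsor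

variable (X : Scheme.{u}) {n : ℕ} (f : Fin n → Γ(X, ⊤))

/-- The coordinate ring of the torsor: `Γ(X)[t₁, …, tₙ, s] / (∑ fᵢ tᵢ - 1)`. -/
noncomputable abbrev relIdeal : Ideal (MvPolynomial (Option (Fin n)) Γ(X, ⊤)) :=
  Ideal.span {(∑ i, MvPolynomial.C (f i) * MvPolynomial.X (some i)) - 1}

/-- The coordinate ring. -/
noncomputable abbrev coordRing : CommRingCat.{u} :=
  CommRingCat.of (MvPolynomial (Option (Fin n)) Γ(X, ⊤) ⧸ relIdeal X f)

/-- The structure map from the functions of `X`. -/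
noncomputable def structMap : Γ(X, ⊤) ⟶ coordRing X f :=
  CommRingCat.ofHom ((Ideal.Quotient.mk (relIdeal X f)).comp MvPolynomial.C)

/-- The coordinates. -/
noncomputable def crd (o : Option (Fin n)) : coordRing X f :=
  Ideal.Quotient.mk (relIdeal X f) (MvPolynomial.X o)

theorem sum_crd : ∑ i, structMap X f (f i) * crd X f (some i) = 1 := by
  show ∑ i, Ideal.Quotient.mk _ (MvPolynomial.C (f i)) * Ideal.Quotient.mk _ (MvPolynomial.X (some i)) = 1
  rw [← map_one (Ideal.Quotient.mk (relIdeal X f)), ← sub_eq_zero]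
  simp only [← map_mul, ← map_sum, ← map_sub]
  exact Ideal.Quotient.eq_zero_iff_mem.2 (Ideal.subset_span rfl)

theorem exists_torsor [X.IsQuasiAffine] (hf : ∀ i, IsAffineOpen (X.basicOpen (f i)))
    (hcov : ∀ x : X, ∃ i, x ∈ X.basicOpen (f i)) :
    ∃ (T : Scheme.{u}) (_ : IsAffine T) (p : T ⟶ X),
      ∀ (X' : Scheme.{u}) [IsAffine X'] (g : X' ⟶ X),
        ∃ e : Limits.pullback g p ≅ 𝔸(ULift.{u} (Fin n); X'),
          e.hom ≫ (𝔸(ULift.{u} (Fin n); X') ↘ X') = Limits.pullback.fst g p := by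
  classical
  let p₀ : Spec (coordRing X f) ⟶ Spec Γ(X, ⊤) := Spec.map (structMap X f)
  have hr : Set.range p₀ ⊆ Set.range X.toSpecΓ := by
    rintro _ ⟨P, rfl⟩
    have : ∃ i, structMap X f (f i) ∉ P.asIdeal := by
      by_contra h
      push Not at h
      refine P.2.ne_top ((Ideal.eq_top_iff_one _).2 ?_)
      rw [← sum_crd X f]
      exact sum_mem fun i _ => P.asIdeal.mul_mem_right _ (h i)
    obtain ⟨i, hi⟩ := this
    exact basicOpen_le_range X (f i) (hf i) hi
  let p : Spec (coordRing X f) ⟶ X := IsOpenImmersion.lift X.toSpecΓ p₀ hr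
  have hp : p ≫ X.toSpecΓ = p₀ := IsOpenImmersion.lift_fac _ _ _
  refine ⟨Spec (coordRing X f), inferInstance, p, fun X' _ g => ?_⟩
  let G : Fin n → Γ(X', ⊤) := fun i => g.appTop (f i)
  have hG : Ideal.span (Set.range G) = ⊤ := by
    refine (isAffineOpen_top X').iSup_basicOpen_eq_self_iff.1 (top_le_iff.1 fun x _ => ?_)
    obtain ⟨i, hi⟩ := hcov (g x)
    refine Opens.mem_iSup.2 ⟨⟨_, i, rfl⟩, ?_⟩
    show x ∈ X'.basicOpen (g.appTop (f i))
    rw [← Scheme.preimage_basicOpen_top]; exact hi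
  obtain ⟨a, ha⟩ : ∃ a : Fin n → Γ(X', ⊤), ∑ i, a i * G i = 1 :=
    Ideal.mem_span_range_iff_exists_fun.1 (hG ▸ Submodule.mem_top)
  -- the relation between the two projections
  let P := pullback g p
  let q₁ : P ⟶ X' := pullback.fst g p
  let q₂ : P ⟶ Spec (coordRing X f) := pullback.snd g p
  let ψ : coordRing X f ⟶ Γ(P, ⊤) := (Scheme.ΓSpecIso _).inv ≫ q₂.appTop
  have hψ : structMap X f ≫ ψ = g.appTop ≫ q₁.appTop := by
    have h1 : q₁ ≫ g ≫ X.toSpecΓ = q₂ ≫ Spec.map (structMap X f) := by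
      rw [← Category.assoc q₁ g, pullback.condition, Category.assoc, hp]
    have h2 := congrArg Scheme.Hom.appTop h1
    simp only [Scheme.Hom.comp_appTop, Scheme.toSpecΓ_appTop, Category.assoc] at h2
    rw [← cancel_epi (Scheme.ΓSpecIso Γ(X, ⊤)).hom]
    refine Eq.trans ?_ h2.symm
    simp only [ψ]
    rw [← Scheme.ΓSpecIso_naturality_assoc, Iso.hom_inv_id_assoc]
  let uu : ULift.{u} (Fin n) → Γ(P, ⊤) := fun i =>
    ψ (crd X f (some i.down)) + ψ (crd X f none) * q₁.appTop (a i.down)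
  let F : P ⟶ 𝔸(ULift.{u} (Fin n); X') := AffineSpace.homOfVector q₁ uu
  -- the inverse
  let A := 𝔸(ULift.{u} (Fin n); X')
  let π : A ⟶ X' := A ↘ X'
  let c : Fin n → Γ(A, ⊤) := fun i => AffineSpace.coord X' ⟨i⟩
  let s : Γ(A, ⊤) := ∑ i, π.appTop (G i) * c i - 1
  let t : Fin n → Γ(A, ⊤) := fun i => c i - s * π.appTop (a i)
  let ev : MvPolynomial (Option (Fin n)) Γ(X, ⊤) →+* Γ(A, ⊤) :=
    MvPolynomial.eval₂Hom ((g.appTop ≫ π.appTop).hom) fun o => o.elim s t
  have hev : relIdeal X f ≤ RingHom.ker ev := by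
    rw [Ideal.span_le, Set.singleton_subset_iff]
    show ev _ = 0
    simp only [ev, map_sub, map_sum, map_mul, MvPolynomial.eval₂Hom_C, MvPolynomial.eval₂Hom_X',
      Option.elim_some, map_one, CommRingCat.hom_comp, RingHom.comp_apply, t, mul_sub,
      Finset.sum_sub_distrib]
    have : ∑ i, π.appTop (G i) * (s * π.appTop (a i)) = s := by
      calc ∑ i, π.appTop (G i) * (s * π.appTop (a i))
          = s * π.appTop (∑ i, a i * G i) := by
            rw [map_sum, Finset.mul_sum]; exact Finset.sum_congr rfl fun i _ => by rw [map_mul]; ring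
        _ = s := by rw [ha, map_one, mul_one]
    show ∑ i, π.appTop (G i) * c i - ∑ i, π.appTop (G i) * (s * π.appTop (a i)) - 1 = 0
    rw [this]; simp only [s]; ring
  let φ : coordRing X f ⟶ Γ(A, ⊤) := CommRingCat.ofHom (Ideal.Quotient.lift _ ev hev)
  have hφC : structMap X f ≫ φ = g.appTop ≫ π.appTop := by
    ext r
    exact (MvPolynomial.eval₂Hom_C _ _ r)
  have hφX : ∀ o, φ (crd X f o) = o.elim s t := fun o => MvPolynomial.eval₂Hom_X' _ _ o
  let I₂ : A ⟶ Spec (coordRing X f) := A.toSpecΓ ≫ Spec.map φ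
  have hI : π ≫ g = I₂ ≫ p := by
    rw [← cancel_mono X.toSpecΓ, Category.assoc, Category.assoc, hp, Scheme.toSpecΓ_naturality g,
      ← Category.assoc, Scheme.toSpecΓ_naturality π, Category.assoc, ← Spec.map_comp]
    simp only [I₂, p₀, Category.assoc, ← Spec.map_comp, hφC]
  let I : A ⟶ P := pullback.lift π I₂ hI
  have hIψ : ψ ≫ I.appTop = φ := by
    have h1 : I ≫ q₂ = I₂ := pullback.lift_snd _ _ _
    have h2 := congrArg Scheme.Hom.appTop h1
    rw [Scheme.Hom.comp_appTop, specHom_appTop] at h2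
    simp only [ψ, Category.assoc, h2, Iso.inv_hom_id_assoc]
  have hFπ : F ≫ π = q₁ := AffineSpace.homOfVector_over _ _
  have hFc : ∀ i, F.appTop (c i) = uu ⟨i⟩ := fun i => AffineSpace.homOfVector_appTop_coord _ _ _
  have hFG : ∀ r, F.appTop (π.appTop r) = q₁.appTop r := fun r => by
    rw [← CommRingCat.comp_apply, ← Scheme.Hom.comp_appTop, hFπ]
  have hsum : ∑ i, q₁.appTop (G i) * ψ (crd X f (some i)) = 1 := by
    rw [← map_one ψ.hom, ← sum_crd X f, map_sum]
    refine Finset.sum_congr rfl fun i _ => ?_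
    rw [map_mul]
    congr 1
    exact (congrArg (fun m : Γ(X, ⊤) ⟶ Γ(P, ⊤) => m (f i)) hψ).symm
  have hFs : F.appTop s = ψ (crd X f none) := by
    simp only [s, map_sub, map_sum, map_mul, map_one, hFc, hFG, uu, mul_add, Finset.sum_add_distrib]
    rw [hsum]
    have : ∑ i, q₁.appTop (G i) * (ψ (crd X f none) * q₁.appTop (a i)) = ψ (crd X f none) := by
      calc ∑ i, q₁.appTop (G i) * (ψ (crd X f none) * q₁.appTop (a i))
          = ψ (crd X f none) * q₁.appTop (∑ i, a i * G i) := by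
            rw [map_sum, Finset.mul_sum]; exact Finset.sum_congr rfl fun i _ => by rw [map_mul]; ring
        _ = _ := by rw [ha, map_one, mul_one]
    rw [this]; ring
  refine ⟨⟨F, I, ?_, ?_⟩, hFπ⟩
  · apply pullback.hom_ext
    · rw [Category.assoc, pullback.lift_fst, Category.id_comp]; exact hFπ
    · rw [Category.assoc, pullback.lift_snd, Category.id_comp]
      refine Eq.trans ?_ (eq_specHom q₂).symm
      simp only [I₂]
      rw [specHom_comp]
      refine congrArg (fun m => P.toSpecΓ ≫ Spec.map m) (CommRingCat.hom_ext ?_)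
      refine Ideal.Quotient.ringHom_ext (MvPolynomial.ringHom_ext (fun r => ?_) fun o => ?_)
      · show F.appTop (φ (structMap X f r)) = ψ (structMap X f r)
        rw [← CommRingCat.comp_apply _ φ, hφC, ← CommRingCat.comp_apply _ ψ, hψ]
        exact hFG _
      · show F.appTop (φ (crd X f o)) = ψ (crd X f o)
        rw [hφX]
        cases o with
        | none => exact hFs
        | some i =>
          show F.appTop (t i) = _
          simp only [t, map_sub, map_mul, hFc, hFG, hFs, uu]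
          ring
  · have hIπ : I ≫ q₁ = π := pullback.lift_fst _ _ _
    refine AffineSpace.hom_ext ?_ fun i => ?_
    · rw [Category.assoc, Category.id_comp]
      exact (congrArg (I ≫ ·) hFπ).trans hIπ
    · rw [Scheme.Hom.comp_appTop, CommRingCat.comp_apply, Scheme.Hom.id_appTop]
      show I.appTop (F.appTop (c i.down)) = c i.down
      rw [hFc]
      simp only [uu, map_add, map_mul]
      rw [← CommRingCat.comp_apply ψ I.appTop, ← CommRingCat.comp_apply ψ I.appTop, hIψ, hφX, hφX,
        ← CommRingCat.comp_apply q₁.appTop, ← Scheme.Hom.comp_appTop, hIπ]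
      simp only [Option.elim_none, Option.elim_some, t]
      ring

end torsor

end Groth.Agent.QAffTorsor12
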